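import Groth.Agent.Lib.FrobSub13.Main
import Groth.Agent.Lib.FBase7.Reduced
import Groth.Agent.Lib.GrpSchField.Criteria

/-!
# The image of an iterated relative Frobenius is geometrically reduced
-/

set_option autoImplicit false
set_option linter.all false
set_option backward.isDefEq.respectTransparency false
set_option backward.isDefEq.respectTransparency.types false
set_option maxHeartbeats 1000000

universe u

open CategoryTheory CategoryTheory.Limits MonoidalCategory CartesianMonoidalCategory MonObj GrpObj AlgebraicGeometry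

noncomputable section

namespace GrothLib.FrobImg2

open FrobSub13

variable {p : ℕ} [Fact p.Prime]

/-- Nilpotent sections have exponent at most `N`. -/
def NilExp (X : Scheme.{u}) (N : ℕ) : Prop := ∀ (U : X.Opens) (a : Γ(X, U)), IsNilpotent a → a ^ N = 0

theorem frobN_app (X : Scheme.{u}) [FrobSch.IsCharP X p] :
    ∀ (n : ℕ) (U : X.Opens) (h : frobN p X n ⁻¹ᵁ U ≤ U) (a : Γ(X, U)),
      (frobN p X n).app U a = (X.presheaf.map (homOfLE h).op a) ^ p ^ n
  | 0, U, h, a => by
    rw [pow_zero, pow_one]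
    show a = X.presheaf.map (homOfLE h).op a
    rw [show (homOfLE h).op = 𝟙 _ from Subsingleton.elim _ _, X.presheaf.map_id]
    rfl
  | n + 1, U, h, a => by
    have h' : frobN p X n ⁻¹ᵁ U ≤ U := fun x hx => by
      change frobN p X n x ∈ U at hx
      rwa [frobN_apply] at hx
    show (FrobSch.frob X p).app _ ((frobN p X n).app U a) = _
    rw [frobN_app X n U h' a, FrobSch.frob_app, ← pow_mul, ← pow_succ]
    rfl

theorem frobN_app_eq_zero (X : Scheme.{u}) [FrobSch.IsCharP X p] {N n : ℕ} (hN : NilExp X N) (hn : N ≤ p ^ n)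
    (U : X.Opens) (a : Γ(X, U)) (ha : IsNilpotent ((frobN p X n).app U a)) : (frobN p X n).app U a = 0 := by
  have h' : frobN p X n ⁻¹ᵁ U ≤ U := fun x hx => by
    change frobN p X n x ∈ U at hx
    rwa [frobN_apply] at hx
  rw [frobN_app X n U h' a] at ha ⊢
  exact pow_eq_zero_of_le hn (hN _ _ (IsNilpotent.of_pow ha))

/-- A scheme-theoretic image of a morphism which pulls nilpotent sections back to zero is reduced. -/
theorem isReduced_of_dominant {X Y Z : Scheme.{u}} [FrobSch.IsCharP X p] {N n : ℕ} (hN : NilExp X N)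
    (hn : N ≤ p ^ n) (h : X ⟶ Y) [IsSchemeTheoreticallyDominant h] [QuasiCompact h] (j : Y ⟶ Z)
    [IsClosedImmersion j] (e : X ⟶ Z) (he : h ≫ j = frobN p X n ≫ e) : IsReduced Y := by
  refine ⟨fun U => ⟨fun s hs => ?_⟩⟩
  obtain ⟨O, hO, hOU⟩ := j.isClosedEmbedding.isInducing.isOpen_iff.1 U.2
  have hcov : ∀ y : U, ∃ W : Z.Opens, IsAffineOpen W ∧ j y.1 ∈ W ∧ j ⁻¹ᵁ W ≤ U := by
    rintro ⟨y, hy⟩
    have hy' : j y ∈ (⟨O, hO⟩ : Z.Opens) := by
      show y ∈ j ⁻¹' O
      rw [hOU]; exact hy
    obtain ⟨_, ⟨W, hW, rfl⟩, hyW, hWO⟩ := Z.isBasis_affineOpens.exists_subset_of_mem_open hy' hO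
    refine ⟨W, hW, hyW, fun z hz => ?_⟩
    show z ∈ (U : Set Y)
    show z ∈ U.carrier
    rw [← hOU]
    exact hWO hz
  choose W hW hyW hWU using hcov
  refine TopCat.Sheaf.eq_of_locally_eq' Y.sheaf (fun y => j ⁻¹ᵁ W y) U (fun y => homOfLE (hWU y))
    (fun y hy => TopologicalSpace.Opens.mem_iSup.2 ⟨⟨y, hy⟩, hyW ⟨y, hy⟩⟩) s 0 fun y => ?_
  rw [map_zero]
  set s' := Y.sheaf.1.map (homOfLE (hWU y)).op s with hs'def
  have hs' : IsNilpotent s' := hs.map _
  obtain ⟨g, hg⟩ := j.app_surjective (W y) (hW y) s'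
  apply h.app_injective (j ⁻¹ᵁ W y)
  rw [map_zero, ← hg]
  have key : ∀ (f₁ f₂ : X ⟶ Z), f₁ = f₂ → IsNilpotent (f₁.app (W y) g) → f₂.app (W y) g = 0 → f₁.app (W y) g = 0 := by
    rintro f₁ f₂ rfl _ h2; exact h2
  have hnil : IsNilpotent ((h ≫ j).app (W y) g) := by
    rw [Scheme.Hom.comp_app]
    show IsNilpotent (h.app _ (j.app (W y) g))
    rw [hg]; exact hs'.map _
  have hnil2 : IsNilpotent ((frobN p X n ≫ e).app (W y) g) := by
    revert hnil; rw [he]; exact id
  have h2 : (frobN p X n ≫ e).app (W y) g = 0 := by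
    rw [Scheme.Hom.comp_app] at hnil2 ⊢
    exact frobN_app_eq_zero X hN hn _ _ hnil2
  have := key _ _ he hnil h2
  rw [Scheme.Hom.comp_app] at this
  exact this

variable {k : Type u} [Field k] [CharP k p]

local notation "S₀" => Spec (CommRingCat.of k)

/-- The base of the iterated Frobenius twist. -/
def σ (n : ℕ) : S₀ ⟶ S₀ := frobN p S₀ n

/-- The iterated relative Frobenius. -/
def frobRel (n : ℕ) : 𝟭 (Over S₀) ⟶ Over.pullback (σ (p := p) (k := k) n) where
  app X := Over.homMk
    (pullback.lift (haveI := FrobSch.IsCharP.of_hom X.hom p; frobN p X.left n) X.hom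
      (haveI := FrobSch.IsCharP.of_hom X.hom p; frobN_comp p X.hom n))
    (pullback.lift_snd _ _ _)
  naturality X Y f := by
    haveI := FrobSch.IsCharP.of_hom X.hom p
    haveI := FrobSch.IsCharP.of_hom Y.hom p
    ext1
    refine pullback.hom_ext ?_ ?_
    · simp [frobN_comp p f.left n]
    · simp

/-- The iterated relative Frobenius on an object. -/
abbrev Φ (n : ℕ) (X : Over S₀) : X ⟶ (Over.pullback (σ (p := p) (k := k) n)).obj X := (frobRel n).app X

theorem Φ_naturality (n : ℕ) {X Y : Over S₀} (f : X ⟶ Y) :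
    f ≫ Φ (p := p) n Y = Φ n X ≫ (Over.pullback (σ n)).map f := (frobRel n).naturality f

instance isMonHom_Φ (n : ℕ) (G : Over S₀) [GrpObj G] : IsMonHom (Φ (p := p) n G) := by
  let α := frobRel (p := p) (k := k) n
  refine ⟨?_, ?_⟩
  · show η[G] ≫ α.app G = _
    have h := NatTrans.IsMonoidal.unit (τ := α)
    have e := α.naturality η[G]
    simp only [Functor.id_map, Functor.LaxMonoidal.id_ε, Category.id_comp] at h e
    rw [e, h, Functor.obj.η_def]
  · show μ[G] ≫ α.app G = (α.app G ⊗ₘ α.app G) ≫ _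
    have h := NatTrans.IsMonoidal.tensor (τ := α) G G
    have e := α.naturality μ[G]
    simp only [Functor.id_map, Functor.id_obj, Functor.LaxMonoidal.id_μ, Category.id_comp] at h e
    rw [e, h, Functor.obj.μ_def, Category.assoc]

theorem Φ_fst (n : ℕ) (X : Over S₀) [FrobSch.IsCharP X.left p] :
    (Φ (p := p) n X).left ≫ pullback.fst X.hom (σ n) = frobN p X.left n := pullback.lift_fst _ _ _

theorem quasiCompact_Φ (n : ℕ) (X : Over S₀) : QuasiCompact (Φ (p := p) n X).left := by
  haveI := FrobSch.IsCharP.of_hom X.hom p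
  haveI : QuasiCompact (frobN p X.left n) := by
    refine ⟨fun U hU hUc => ?_⟩
    rwa [show (frobN p X.left n) ⁻¹' U = U from Set.ext fun x => by
      rw [Set.mem_preimage, frobN_apply]]
  haveI : IsAffineHom (σ (p := p) (k := k) n) := isAffineHom_of_isAffine _
  haveI : QuasiCompact ((Φ (p := p) n X).left ≫ pullback.fst X.hom (σ n)) := by rw [Φ_fst]; infer_instance
  exact QuasiCompact.of_comp _ (pullback.fst X.hom (σ n))

local notation "φ" => Spec.map (CommRingCat.ofHom (algebraMap k (AlgebraicClosure k)))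

/-- A closed subscheme of a Frobenius twist dominated by the relative Frobenius is geometrically reduced when the
exponent is large enough. -/
theorem geometricallyReduced_of_dominant {X Y : Over S₀} {n N : ℕ} (hN : NilExp (Red.bc φ X).left N)
    (hn : N ≤ p ^ n) (h : X ⟶ Y) [IsSchemeTheoreticallyDominant h.left] [QuasiCompact h.left]
    (j : Y ⟶ (Over.pullback (σ (p := p) n)).obj X) [IsClosedImmersion j.left] (hj : h ≫ j = Φ n X) :
    GeometricallyReduced Y.hom := by
  let K := AlgebraicClosure k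
  haveI : CharP K p := charP_of_injective_algebraMap (algebraMap k (AlgebraicClosure k)).injective p
  haveI : ExpChar K p := ExpChar.prime Fact.out
  haveI := FrobSch.IsCharP.of_hom X.hom p
  haveI := FrobSch.IsCharP.of_hom (pullback.snd X.hom φ) p
  haveI : FrobSch.IsCharP (Red.bc φ X).left p := FrobSch.IsCharP.of_hom (pullback.snd X.hom φ) p
  let P := Over.pullback φ
  have hfst : ∀ {A B : Over S₀} (f : A ⟶ B),
      IsPullback (P.map f).left (pullback.fst A.hom φ) (pullback.fst B.hom φ) f.left := fun {A B} f => by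
    refine IsPullback.of_right ?_ (pullback.lift_fst _ _ _) (IsPullback.of_hasPullback B.hom φ).flip
    rw [show (P.map f).left ≫ pullback.snd B.hom φ = pullback.snd A.hom φ from pullback.lift_snd _ _ _, Over.w f]
    exact (IsPullback.of_hasPullback A.hom φ).flip
  haveI : Flat φ := inferInstance
  haveI : IsSchemeTheoreticallyDominant (P.map h).left := IsSchemeTheoreticallyDominant.of_isPullback (hfst h).flip
  haveI : QuasiCompact (P.map h).left := MorphismProperty.of_isPullback (hfst h).flip ‹QuasiCompact h.left›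
  haveI : IsClosedImmersion (P.map j).left := MorphismProperty.of_isPullback (hfst j).flip ‹IsClosedImmersion j.left›
  let τ : K ≃+* K := iterateFrobeniusEquiv K p n
  let τi : Spec (CommRingCat.of K) ⟶ Spec (CommRingCat.of K) :=
    Spec.map (CommRingCat.ofHom τ.symm.toRingHom)
  have hτ : frobN p (Spec (CommRingCat.of K)) n ≫ τi = 𝟙 _ := by
    rw [frobN_spec p K n τ.toRingHom (fun r => iterateFrobenius_def p n r), ← Spec.map_comp, ← CommRingCat.ofHom_comp,
      show τ.toRingHom.comp τ.symm.toRingHom = RingHom.id K from RingHom.ext τ.apply_symm_apply]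
    exact Spec.map_id _
  have hφ : frobN p (Spec (CommRingCat.of K)) n ≫ φ = φ ≫ σ n := frobN_comp p φ n
  have hτ' : τi ≫ frobN p (Spec (CommRingCat.of K)) n = 𝟙 _ := by
    rw [frobN_spec p K n τ.toRingHom (fun r => iterateFrobenius_def p n r), ← Spec.map_comp, ← CommRingCat.ofHom_comp,
      show τ.symm.toRingHom.comp τ.toRingHom = RingHom.id K from RingHom.ext τ.symm_apply_apply]
    exact Spec.map_id _
  let pr : (Red.bc φ X).left ⟶ X.left := pullback.fst X.hom φ
  let ps : (Red.bc φ X).left ⟶ Spec (CommRingCat.of K) := pullback.snd X.hom φ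
  have hw : pr ≫ X.hom = (ps ≫ τi ≫ φ) ≫ σ n := by
    rw [Category.assoc, Category.assoc, ← hφ, reassoc_of% hτ']
    exact pullback.condition
  let e : (Red.bc φ X).left ⟶ (P.obj ((Over.pullback (σ (p := p) n)).obj X)).left :=
    pullback.lift (pullback.lift pr (ps ≫ τi ≫ φ) hw) (ps ≫ τi) (by
      rw [Category.assoc]; exact pullback.lift_snd _ _ _)
  have hred : IsReduced (P.obj Y).left := by
    refine isReduced_of_dominant (p := p) hN hn (P.map h).left (P.map j).left e ?_
    rw [← Over.comp_left, ← P.map_comp, hj]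
    refine pullback.hom_ext (pullback.hom_ext ?_ ?_) ?_
    · rw [Category.assoc, Category.assoc, ← Category.assoc (P.map (Φ n X)).left,
        show (P.map (Φ (p := p) n X)).left ≫ pullback.fst _ φ = pr ≫ (Φ n X).left from pullback.lift_fst _ _ _,
        Category.assoc, Φ_fst]
      simp only [e, Category.assoc]
      erw [pullback.lift_fst_assoc, pullback.lift_fst]
      exact (frobN_comp p pr n).symm
    · rw [Category.assoc, Category.assoc, ← Category.assoc (P.map (Φ n X)).left,
        show (P.map (Φ (p := p) n X)).left ≫ pullback.fst _ φ = pr ≫ (Φ n X).left from pullback.lift_fst _ _ _,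
        Category.assoc, show (Φ (p := p) n X).left ≫ pullback.snd X.hom (σ n) = X.hom from pullback.lift_snd _ _ _]
      simp only [e, Category.assoc]
      erw [pullback.lift_fst_assoc, pullback.lift_snd]
      rw [← Category.assoc (frobN p (Red.bc φ X).left n), frobN_comp p ps n, Category.assoc, reassoc_of% hτ]
      exact pullback.condition
    · rw [Category.assoc, show (P.map (Φ (p := p) n X)).left ≫ pullback.snd _ φ = ps from pullback.lift_snd _ _ _]
      simp only [e, Category.assoc]
      erw [pullback.lift_snd]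
      rw [← Category.assoc (frobN p (Red.bc φ X).left n), frobN_comp p ps n, Category.assoc, hτ, Category.comp_id]
  haveI : AlgebraicGeometry.IsReduced (FBase.bc Y.hom K) := hred
  exact GrothLib.FBase7.geometricallyReduced_of_perfect Y.hom K

/-- Noetherian schemes have bounded nilpotency. -/
theorem exists_nilExp (X : Scheme.{u}) [IsNoetherian X] : ∃ N, NilExp X N := by
  classical
  have hloc : ∀ x : X, ∃ V : X.Opens, x ∈ V ∧ IsAffineOpen V := fun x => by
    obtain ⟨_, ⟨V, hV, rfl⟩, hxV, -⟩ := X.isBasis_affineOpens.exists_subset_of_mem_open (Set.mem_univ x) isOpen_univ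
    exact ⟨V, hxV, hV⟩
  choose V hxV hV using hloc
  have hbd : ∀ x : X, ∃ N, ∀ (U : X.Opens) (hUV : U ≤ V x) (a : Γ(X, U)), IsNilpotent a → a ^ N = 0 := by
    intro x
    haveI : IsNoetherianRing Γ(X, V x) := IsLocallyNoetherian.component_noetherian ⟨V x, hV x⟩
    obtain ⟨N, hN⟩ := IsNoetherianRing.isNilpotent_nilradical Γ(X, V x)
    refine ⟨N, fun U hUV a ha => ?_⟩
    refine TopCat.Presheaf.section_ext X.sheaf U _ _ fun z hz => ?_
    rw [map_pow, map_zero]
    have hz' : IsNilpotent (X.presheaf.germ U z hz a) := ha.map _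
    letI := TopCat.Presheaf.algebra_section_stalk X.presheaf ⟨z, hUV hz⟩
    haveI := (hV x).isLocalization_stalk ⟨z, hUV hz⟩
    obtain ⟨⟨b, s⟩, hb⟩ := IsLocalization.surj
      (M := ((hV x).primeIdealOf ⟨z, hUV hz⟩).asIdeal.primeCompl) (X.presheaf.germ U z hz a)
    set c := algebraMap Γ(X, V x) (X.presheaf.stalk z)
    change _ * c s.1 = c b at hb
    have hbn : IsNilpotent (c b) := hb ▸ (Commute.all _ _).isNilpotent_mul_right hz'
    obtain ⟨m, hm⟩ := hbn
    rw [← map_pow, IsLocalization.map_eq_zero_iff ((hV x).primeIdealOf ⟨z, hUV hz⟩).asIdeal.primeCompl] at hm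
    obtain ⟨t, ht⟩ := hm
    have htb : IsNilpotent (t.1 * b) := ⟨m + 1, by
      rw [_root_.mul_pow, show t.1 ^ (m + 1) * b ^ (m + 1) = (t.1 * b ^ m) * (t.1 ^ m * b) by ring, ht, zero_mul]⟩
    have hpow : (t.1 * b) ^ N = 0 := by
      have := Ideal.pow_mem_pow (mem_nilradical.2 htb) N
      rwa [hN] at this
    have hct : IsUnit (c (t.1 * s.1)) := IsLocalization.map_units (X.presheaf.stalk z) (t * s)
    have e1 : (c (t.1 * s.1)) ^ N * (X.presheaf.germ U z hz a) ^ N = 0 := by
      rw [← _root_.mul_pow, map_mul, show c t.1 * c s.1 * (X.presheaf.germ U z hz a) =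
        c t.1 * ((X.presheaf.germ U z hz a) * c s.1) by ring, hb, ← map_mul, ← map_pow, hpow, map_zero]
    exact (hct.pow N).mul_right_eq_zero.1 e1
  choose N hN using hbd
  obtain ⟨t, ht⟩ := isCompact_univ.elim_finite_subcover (fun x : X => (V x : Set X)) (fun x => (V x).2)
    fun x _ => Set.mem_iUnion.2 ⟨x, hxV x⟩
  refine ⟨t.sup N, fun U a ha => ?_⟩
  refine TopCat.Sheaf.eq_of_locally_eq' X.sheaf (fun i : t => U ⊓ V i.1) U (fun i => homOfLE inf_le_left)
    (fun z hz => ?_) (a ^ t.sup N) 0 fun i => ?_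
  · obtain ⟨i, hi, hz'⟩ := Set.mem_iUnion₂.1 (ht (Set.mem_univ z))
    exact TopologicalSpace.Opens.mem_iSup.2 ⟨⟨i, hi⟩, hz, hz'⟩
  · rw [map_zero, map_pow]
    exact pow_eq_zero_of_le (Finset.le_sup i.2) (hN i.1 _ inf_le_right _ (ha.map _))

end GrothLib.FrobImg2
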