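import Groth.Agent.Lib.FrobImg2.Basic
import Groth.Agent.Lib.Neutral.FieldFactor
import Groth.Agent.Lib.GrpDeligne.Factor
import Groth.Agent.Lib.UnitProd.Split
import Groth.Agent.Lib.NoriFGS13.FFlat
import Groth.Agent.Lib.UnipSplit24.AntiAffine

/-!
# Smooth quotients by infinitesimal normal subgroups
-/

set_option autoImplicit false
set_option linter.all false
set_option backward.isDefEq.respectTransparency false
set_option backward.isDefEq.respectTransparency.types false
set_option maxHeartbeats 1000000

universe u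

open CategoryTheory CategoryTheory.Limits MonoidalCategory CartesianMonoidalCategory MonObj GrpObj AlgebraicGeometry

noncomputable section

namespace GrothLib.FrobImg2

variable {k : Type u} [Field k]

local notation "S₀" => Spec (CommRingCat.of k)

/-- Nilpotency is bounded on a group locally of finite type over an algebraically closed field. -/
theorem exists_nilExp_group {K : Type u} [Field K] [IsAlgClosed K] (G : Over (Spec (CommRingCat.of K))) [GrpObj G]
    [LocallyOfFiniteType G.hom] : ∃ N, NilExp G.left N := by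
  haveI : IsLocallyNoetherian G.left := LocallyOfFiniteType.isLocallyNoetherian G.hom
  haveI : JacobsonSpace G.left := LocallyOfFiniteType.jacobsonSpace (Y := Spec _) G.hom
  let o : G.left := η[G].left (IsLocalRing.closedPoint K)
  obtain ⟨_, ⟨U₀, hU₀, rfl⟩, ho, -⟩ := G.left.isBasis_affineOpens.exists_subset_of_mem_open (Set.mem_univ o) isOpen_univ
  haveI : IsAffine (U₀ : Scheme.{u}) := hU₀
  haveI : IsNoetherian (U₀ : Scheme.{u}) := {}
  obtain ⟨N, hN⟩ := exists_nilExp (U₀ : Scheme.{u})
  refine ⟨N, fun W a ha => ?_⟩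
  have hcl : ∀ x ∈ closedPoints G.left, ∀ hx : x ∈ W, G.left.presheaf.germ W x hx (a ^ N) = 0 := by
    intro x hxc hxW
    obtain ⟨c, hc⟩ := Rigidity.exists_point_over G x hxc
    let t : G ⟶ G := 𝟙 G * (toUnit G ≫ c)
    let t' : G ⟶ G := 𝟙 G * (toUnit G ≫ c⁻¹)
    have h1 : t ≫ t' = 𝟙 G := by
      simp only [t', MonObj.comp_mul, Category.comp_id]
      rw [← Category.assoc, toUnit_unique (t ≫ toUnit G) (toUnit G)]
      simp only [t]
      rw [GrpObj.comp_inv, mul_inv_cancel_right]
    have h2 : t' ≫ t = 𝟙 G := by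
      simp only [t, MonObj.comp_mul, Category.comp_id]
      rw [← Category.assoc, toUnit_unique (t' ≫ toUnit G) (toUnit G)]
      simp only [t']
      rw [GrpObj.comp_inv, inv_mul_cancel_right]
    haveI : IsIso t := ⟨t', h1, h2⟩
    haveI : IsIso t.left := inferInstanceAs (IsIso ((Over.forget _).map t))
    have hto : t.left o = x := by
      rw [← hc]
      show (η[G].left ≫ t.left) _ = _
      rw [← Over.comp_left]
      simp only [t, MonObj.comp_mul, Category.comp_id]
      rw [← Category.assoc, toUnit_unique (η[G] ≫ toUnit G) (𝟙 _), Category.id_comp, MonObj.one_eq_one, _root_.one_mul]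
    have hoW : o ∈ t.left ⁻¹ᵁ W := by
      show t.left o ∈ W
      rw [hto]; exact hxW
    let b := t.left.app W a
    have hb : IsNilpotent b := ha.map _
    -- on the chart the power vanishes
    let V : G.left.Opens := t.left ⁻¹ᵁ W ⊓ U₀
    let b' := G.left.presheaf.map (homOfLE (inf_le_left : V ≤ t.left ⁻¹ᵁ W)).op b
    have hVim : (Scheme.Opens.ι U₀) ''ᵁ ((Scheme.Opens.ι U₀) ⁻¹ᵁ V) = V := by
      rw [Scheme.Hom.image_preimage_eq_opensRange_inf, Scheme.Opens.opensRange_ι]
      exact inf_eq_right.2 inf_le_right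
    have hb' : b' ^ N = 0 := by
      haveI : IsIso ((Scheme.Opens.ι U₀).app V) := Scheme.Hom.isIso_app _ V (by
        rw [Scheme.Opens.opensRange_ι]; exact inf_le_right)
      have hinj : Function.Injective ((Scheme.Opens.ι U₀).app V) := (ConcreteCategory.bijective_of_isIso ((Scheme.Opens.ι U₀).app V)).1
      apply hinj
      rw [map_pow, map_zero]
      exact hN _ _ ((hb.map _).map _)
    have hgerm : G.left.presheaf.germ (t.left ⁻¹ᵁ W) o hoW (b ^ N) = 0 := by
      rw [← TopCat.Presheaf.germ_res_apply G.left.presheaf (homOfLE (inf_le_left : V ≤ t.left ⁻¹ᵁ W)) o ⟨hoW, ho⟩,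
        map_pow, show G.left.presheaf.map (homOfLE (inf_le_left : V ≤ t.left ⁻¹ᵁ W)).op b = b' from rfl, hb', map_zero]
    subst hto
    apply (ConcreteCategory.bijective_of_isIso (t.left.stalkMap o)).1
    rw [map_zero, Scheme.Hom.germ_stalkMap_apply, map_pow]
    exact hgerm
  refine TopCat.Presheaf.section_ext G.left.sheaf W _ _ fun z hz => ?_
  rw [map_zero]
  by_contra hne
  let Z : Set G.left := {y | ∀ hy : y ∈ W, G.left.presheaf.germ W y hy (a ^ N) = 0}ᶜ
  have hopen : IsOpen (Zᶜ ∩ (W : Set G.left)) := by
    rw [isOpen_iff_forall_mem_open]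
    rintro y ⟨hy, hyW⟩
    rw [compl_compl] at hy
    obtain ⟨W', hyW', i₁, i₂, he⟩ := G.left.presheaf.germ_eq y hyW hyW (a ^ N) 0 (by rw [map_zero]; exact hy hyW)
    refine ⟨W', fun w hw => ⟨?_, i₁.le hw⟩, W'.2, hyW'⟩
    rw [compl_compl]
    intro hwW
    rw [← TopCat.Presheaf.germ_res_apply G.left.presheaf i₁ w hw, he, map_zero, map_zero]
  obtain ⟨w, ⟨hwW, hwZ⟩, hwc⟩ := nonempty_inter_closedPoints (Z := (W : Set G.left) \ (Zᶜ ∩ W))
    ⟨z, hz, fun hh => by rw [compl_compl] at hh; exact hne (hh.1 hz)⟩
    (W.2.isLocallyClosed.inter hopen.isClosed_compl.isLocallyClosed)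
  exact hwZ ⟨by rw [compl_compl]; exact fun hh => hcl w hwc hh, hwW⟩

/-- An algebraic group over a field has a smooth quotient by a finite normal subgroup with one point. -/
theorem exists_smooth_quot (G : Over S₀) [GrpObj G] [LocallyOfFiniteType G.hom] :
    ∃ (H : Over S₀) (_ : GrpObj H) (i : H ⟶ G) (Q : Over S₀) (_ : GrpObj Q) (q : G ⟶ Q),
      IsMonHom i ∧ IsClosedImmersion i.left ∧ IsFinite H.hom ∧ ConnectedSpace H.left ∧ IsMonHom q ∧ Flat q.left ∧
      Surjective q.left ∧ AlgGrp.IsKernel i q ∧ Smooth Q.hom ∧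
      QuasiCompact q.left ∧ (QuasiCompact G.hom → QuasiCompact Q.hom) := by
  haveI : IsSeparated G.hom := GrpSchField.isSeparated G
  obtain ⟨e, he⟩ := ExpChar.exists k
  cases he with
  | zero =>
    haveI : Smooth G.hom := GrothLib.GrpSchField.smooth_of_charZero G
    refine ⟨𝟙_ _, inferInstance, η[G], G, inferInstance, 𝟙 G, inferInstance, GrothLib.GrpSchField.unit_isClosedImmersion G,
      inferInstanceAs (IsFinite (𝟙 S₀)), ?_, inferInstance, inferInstanceAs (Flat (𝟙 G.left)),
      inferInstanceAs (Surjective (𝟙 G.left)), ?_, inferInstance, inferInstanceAs (QuasiCompact (𝟙 G.left)), id⟩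
    · haveI : IrreducibleSpace ↥S₀ := inferInstanceAs (IrreducibleSpace (PrimeSpectrum k))
      exact inferInstanceAs (ConnectedSpace ↥S₀)
    · show IsPullback _ _ _ _
      rw [Subsingleton.elim (toUnit (𝟙_ (Over S₀))) (𝟙 _)]
      exact IsPullback.of_vert_isIso ⟨by simp⟩
  | prime hp =>
    let p := e
    haveI : CharP k p := ‹CharP k e›
    haveI : Fact p.Prime := ⟨hp⟩
    let φ : Spec (CommRingCat.of (AlgebraicClosure k)) ⟶ S₀ :=
      Spec.map (CommRingCat.ofHom (algebraMap k (AlgebraicClosure k)))
    haveI : LocallyOfFiniteType (Red.bc φ G).hom := inferInstanceAs (LocallyOfFiniteType (pullback.snd G.hom φ))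
    obtain ⟨N, hN⟩ := exists_nilExp_group (Red.bc φ G)
    have hn : N ≤ p ^ N := (Nat.lt_pow_self hp.one_lt).le
    let n := N
    let F := Φ (p := p) n G
    haveI : IsMonHom F := isMonHom_Φ n G
    haveI := quasiCompact_Φ (p := p) n G
    let G' := (Over.pullback (σ (p := p) (k := k) n)).obj G
    haveI : LocallyOfFiniteType G'.hom := by
      show LocallyOfFiniteType (pullback.snd G.hom (σ (p := p) (k := k) n))
      infer_instance
    haveI : IsSeparated G'.hom := GrpSchField.isSeparated G'
    obtain ⟨Q, _, q, j, hq, hj, hqj, hqs, hqf, hql, hjm, hQl, hker⟩ := Neutral.exists_factor_field F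
    haveI := hq; haveI := hj; haveI := hqs; haveI := hqf; haveI := hql; haveI := hjm; haveI := hQl
    haveI : IsClosedImmersion j.left := (Neutral.isClosedImmersion_factor F hqj).1
    haveI : QuasiCompact q.left := (Neutral.isClosedImmersion_factor F hqj).2
    haveI : IsLocallyNoetherian Q.left := LocallyOfFiniteType.isLocallyNoetherian Q.hom
    haveI : IsSchemeTheoreticallyDominant q.left := GrothLib.NoriFGS13.isSchemeTheoreticallyDominant_of_flat q.left
    haveI := geometricallyReduced_of_dominant (p := p) hN hn q j hqj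
    haveI : Smooth Q.hom := by
      letI : GrpObj (Over.mk Q.hom) := (inferInstance : GrpObj Q)
      exact smooth_of_grpObj Q.hom
    have hQqc : QuasiCompact G.hom → QuasiCompact Q.hom := fun _ => by
      haveI : QuasiCompact (q.left ≫ Q.hom) := by rw [Over.w]; infer_instance
      exact GrothLib.Thickening.quasiCompact_of_comp_surjective q.left Q.hom
    let i := pullback.fst F η[G']
    obtain ⟨_, _⟩ := GrpDeligne.exists_grpObj_kernel q i hker
    haveI := GrothLib.GrpSchField.unit_isClosedImmersion G'
    have sqi : IsPullback i.left (pullback.snd F η[G']).left F.left η[G'].left :=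
      (IsPullback.of_hasPullback F η[G']).map (Over.forget _)
    haveI : IsClosedImmersion i.left := MorphismProperty.of_isPullback sqi.flip (inferInstanceAs (IsClosedImmersion η[G'].left))
    haveI : Subsingleton ↥(𝟙_ (Over S₀)).left := inferInstanceAs (Subsingleton (PrimeSpectrum k))
    haveI := FrobSch.IsCharP.of_hom G.hom p
    haveI hsub : Subsingleton ↥(pullback F η[G']).left := by
      refine ⟨fun x y => i.left.isClosedEmbedding.injective ?_⟩
      have h : ∀ z, pullback.fst G.hom (σ (p := p) (k := k) n) (F.left (i.left z)) = i.left z := fun z => by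
        have := congr($(Φ_fst (p := p) n G) (i.left z))
        simp only [Scheme.Hom.comp_apply, GrothLib.FrobSub13.frobN_apply] at this
        exact this
      rw [← h x, ← h y]
      congr 1
      rw [← Scheme.Hom.comp_apply, ← Scheme.Hom.comp_apply i.left, sqi.w, Scheme.Hom.comp_apply, Scheme.Hom.comp_apply,
        Subsingleton.elim ((pullback.snd F η[G']).left x) ((pullback.snd F η[G']).left y)]
    haveI : LocallyOfFiniteType (pullback F η[G']).hom := by rw [← Over.w i]; infer_instance
    haveI : QuasiCompact (pullback F η[G']).hom := by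
      haveI : Finite ↥(pullback F η[G']).left := Finite.of_subsingleton
      exact (quasiCompact_iff_compactSpace _).2 inferInstance
    haveI : LocallyQuasiFinite (pullback F η[G']).hom :=
      LocallyQuasiFinite.of_finite_preimage_singleton _ fun _ => Set.toFinite _
    haveI : Nonempty ↥(pullback F η[G']).left := ⟨η[pullback F η[G']].left (IsLocalRing.closedPoint k)⟩
    exact ⟨_, inferInstance, i, Q, inferInstance, q, inferInstance, inferInstance, IsFinite.of_locallyQuasiFinite _,
      { toNonempty := inferInstance }, hq, hqf, hqs, hker, inferInstance, inferInstance, hQqc⟩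

end GrothLib.FrobImg2
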